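import Mathlib
import Cfsg.Agent.Lib.Helper19.SPD.Defs
import Cfsg.Agent.Lib.Helper13.S5955.Defs

/-!
# Project SPN (the `r = p > 2` part of S5956, and the unipotent toolkit for S5994-S5996): unipotent isometries of
`ε`-symmetric forms, Jordan types by kernel dimensions, Cayley-transform models.  Leader: helper19.
Conventions: `s : ℕ` is the sign exponent of the form, `B v u = (-1) ^ s * B u v` (`s = 1`: alternating / symplectic, `s = 0`: symmetric).
A chain of length `e` is nondegenerate on its own iff `Odd (s + e)`; otherwise chains of length `e` come in pairs.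
-/

set_option autoImplicit false

namespace Cfsg.Agent.Lib.Helper19.SPN

variable {F : Type*} [Field F] {V : Type*} [AddCommGroup V] [Module F V]

/-- `W` is `y`-invariant -/
def GInv (y : Module.End F V) (W : Submodule F V) : Prop := ∀ v ∈ W, y v ∈ W

/-- `B` is nondegenerate on `W` -/
def GND (B : LinearMap.BilinForm F V) (W : Submodule F V) : Prop :=
  ∀ u ∈ W, (∀ v ∈ W, B u v = 0) → u = 0

/-- `y` is an isometry of `B` -/
def GIsom (B : LinearMap.BilinForm F V) (y : Module.End F V) : Prop := ∀ u v, B (y u) (y v) = B u v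

/-- `M` is skew-adjoint for `B` -/
def GSkew (B : LinearMap.BilinForm F V) (M : Module.End F V) : Prop := ∀ u v, B (M u) v = - B u (M v)

/-- `A` and `C` are orthogonal -/
def GOrth (B : LinearMap.BilinForm F V) (A C : Submodule F V) : Prop := ∀ u ∈ A, ∀ v ∈ C, B u v = 0

/-- the orthogonal of `W`: `{v | ∀ w ∈ W, B w v = 0}` -/
def gorth (B : LinearMap.BilinForm F V) (W : Submodule F V) : Submodule F V := B.orthogonal W

/-- `dim (W ⊓ ker N ^ j)` -/
noncomputable def kdim (N : Module.End F V) (W : Submodule F V) (j : ℕ) : ℕ :=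
  Module.finrank F ↥(W ⊓ LinearMap.ker (N ^ j))

/-- `Σ_{e ∈ μ} min e j`: the dimension of `ker N ^ j` for a nilpotent `N` of Jordan type `μ` -/
def msum (μ : Multiset ℕ) (j : ℕ) : ℕ := (μ.map (fun e => min e j)).sum

/-- admissible Jordan types for sign exponent `s`: parts `a` with `Even (s + a)` have even multiplicity
(`s = 1`: odd parts, the symplectic case; `s = 0`: even parts, the orthogonal case) -/
def TypeOK (s : ℕ) (μ : Multiset ℕ) : Prop := ∀ a : ℕ, Even (s + a) → Even (μ.count a)

/-- the form `β (u, v) = B (u, N ^ (e - 1) v)` is nondegenerate on the seed `U₀` -/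
def SeedND (B : LinearMap.BilinForm F V) (N : Module.End F V) (e : ℕ) (U₀ : Submodule F V) : Prop :=
  ∀ u ∈ U₀, (∀ v ∈ U₀, B u ((N ^ (e - 1)) v) = 0) → u = 0

end Cfsg.Agent.Lib.Helper19.SPN
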